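import Groth.Agent.FibDesc.K781.Counit
import Groth.Agent.FibDesc.K781.Defs4
import Groth.Agent.FibDesc.K61.Fubini

/-!
# Descent of presheaves along isomorphic diagrams; restriction of Cech diagrams to open subsets
-/

set_option autoImplicit false
set_option backward.isDefEq.respectTransparency false
set_option backward.isDefEq.respectTransparency.types false

universe u

open CategoryTheory CategoryTheory.Limits ComplexShape Opposite TopologicalSpace FibDesc

namespace K781.Row

open K781.Desc K781.God K781.Cech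

variable {S : TopCat.{u}}

theorem DescP.of_iso {P : (Over S)ᵒᵖ ⥤ AddCommGrpCat.{u}} {τ τ' : Dpᵒᵖ ⥤ Over S} (e : τ ≅ τ')
    (h : DescP P τ) : DescP P τ' := by
  let e' : τ'.rightOp ≅ τ.rightOp :=
    ⟨NatTrans.rightOp e.hom, NatTrans.rightOp e.inv, by
      ext x
      change (e.hom.app (op x)).op ≫ (e.inv.app (op x)).op = 𝟙 _
      rw [← op_comp, Iso.inv_hom_id_app]
      rfl, by
      ext x
      change (e.inv.app (op x)).op ≫ (e.hom.app (op x)).op = 𝟙 _
      rw [← op_comp, Iso.hom_inv_id_app]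
      rfl⟩
  let E : (Functor.whiskeringLeft Dp (Over S)ᵒᵖ AddCommGrpCat.{u}).obj τ'.rightOp ≅
      (Functor.whiskeringLeft Dp (Over S)ᵒᵖ AddCommGrpCat.{u}).obj τ.rightOp :=
    (Functor.whiskeringLeft Dp (Over S)ᵒᵖ AddCommGrpCat.{u}).mapIso e'
  let φ : rs τ'.rightOp (G P) ⟶ rs τ.rightOp (G P) :=
    (NatIso.mapHomologicalComplex E (up ℤ)).hom.app (G P)
  have hφ : IsIso φ := inferInstance
  refine (isDesc_iff_of_quasi (K61.Fub.bb_rs _ (bb_G P)) (K61.Fub.bb_rs _ (bb_G P)) φ fun x => ?_).2 h
  unfold QAt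
  infer_instance

/-- Lifting a morphism to an open subset. -/
def subLift {T Z : Over S} (U : Opens T.left) (k : Z ⟶ T) (hk : ∀ z : Z.left, k.left z ∈ U) : Z ⟶ sub T U :=
  Over.homMk (TopCat.ofHom ⟨fun x => ⟨k.left x, hk x⟩, Continuous.subtype_mk k.left.hom.continuous _⟩) (by
    ext x
    exact congr_arg (fun k => k x) (Over.w k))

@[reassoc (attr := simp)]
lemma subLift_ι {T Z : Over S} (U : Opens T.left) (k : Z ⟶ T) (hk : ∀ z : Z.left, k.left z ∈ U) :
    subLift U k hk ≫ subι T U = k := rfl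

instance isIso_subι_top (T : Over S) : IsIso (subι T ⊤) :=
  ⟨subLift ⊤ (𝟙 T) (fun _ => trivial), sub_hom_ext rfl, rfl⟩

/-- Restriction to the whole base. -/
theorem DescP.of_top {P : (Over S)ᵒᵖ ⥤ AddCommGrpCat.{u}} {τ : Dpᵒᵖ ⥤ Over S}
    (h : DescP P (subD τ ⊤)) : DescP P τ := by
  have : ∀ x, IsIso ((subDι τ ⊤).app x) := fun x => isIso_subι_top (τ.obj x)
  have := NatIso.isIso_of_isIso_app (subDι τ ⊤)
  exact h.of_iso (asIso (subDι τ ⊤))

/-- The restriction of a morphism to the preimage of an open subset is a base change. -/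
lemma isPullback_sub {T T' : Over S} (h : T' ⟶ T) (U' : Opens T'.left) (U : Opens T.left)
    (hU : ∀ x, x ∈ U' ↔ h.left x ∈ U) :
    IsPullback (subι T' U') (subRes h U' U (fun x hx => (hU x).1 hx)) h (subι T U) := by
  refine ⟨⟨(subRes_ι _ _ _ _).symm⟩, ⟨PullbackCone.IsLimit.mk _
    (fun s => subLift U' s.fst fun z => ?_) (fun s => rfl) (fun s => ?_) (fun s m h1 h2 => ?_)⟩⟩
  · rw [hU]
    have h1 : h.left (s.fst.left z) = (s.snd.left z).1 := congr_arg (fun k => k.left z) s.condition
    rw [h1]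
    exact (s.snd.left z).2
  · refine sub_hom_ext ?_
    rw [Category.assoc, subRes_ι]
    exact s.condition
  · refine sub_hom_ext ?_
    rw [h1]
    rfl

lemma isPullback_subDι (τ : Dpᵒᵖ ⥤ Over S) (U : Opens (τ.obj (op WithInitial.star)).left) (x : Dp) :
    IsPullback ((subDι τ U).app (op x)) ((subD τ U).map (init x).op) (τ.map (init x).op)
      ((subDι τ U).app (op .star)) :=
  isPullback_sub (τ.map (init x).op) (ov τ U x) (ov τ U .star) fun z =>
    ⟨fun hz => mem_ov τ U (init x) z hz, fun hz => by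
      have h1 : τ.map (init x).op ≫ τ.map (init .star).op = τ.map (init x).op := by
        rw [← τ.map_comp, ← op_comp, init_comp]
      have h2 : (τ.map (init .star).op).left ((τ.map (init x).op).left z) = (τ.map (init x).op).left z :=
        congr_arg (fun k => k.left z) h1
      change (τ.map (init x).op).left z ∈ U
      rw [← h2]
      exact hz⟩

theorem isCech_subD {τ : Dpᵒᵖ ⥤ Over S} (h : IsCech τ) (U : Opens (τ.obj (op WithInitial.star)).left) :
    IsCech (subD τ U) :=
  h.baseChange (subDι τ U) (isPullback_subDι τ U)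

end K781.Row
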