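import Groth.Agent.FibDesc.K438.Basic
import Groth.Agent.FibDesc.K781.Crit
import Mathlib.Topology.IsLocalHomeomorph

/-!
# Cohomological descent for the Cech nerve of a map, in terms of `DescP`
-/

set_option autoImplicit false
set_option backward.isDefEq.respectTransparency false
set_option backward.isDefEq.respectTransparency.types false

universe u

open CategoryTheory CategoryTheory.Limits ComplexShape Opposite TopologicalSpace FibDesc

namespace K781.Row

open K781.Desc K781.God K781.Cech K781.Crit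

variable {S : TopCat.{u}}

theorem nonempty_iso {σ τ : Dpᵒᵖ ⥤ Over S} (hσ : IsCech σ) (hτ : IsCech τ)
    (a : (σ.obj (op (ob 0))).left ≅ (τ.obj (op (ob 0))).left)
    (b : (σ.obj (op .star)).left ≅ (τ.obj (op .star)).left)
    (hb : b.hom ≫ (τ.obj (op .star)).hom = (σ.obj (op .star)).hom)
    (w : (σ.map (init (ob 0)).op).left ≫ b.hom = a.hom ≫ (τ.map (init (ob 0)).op).left) :
    Nonempty (σ ≅ τ) := by
  obtain ⟨φ, -, -⟩ := exists_iso hσ hτ
    (Over.isoMk a (by
      rw [← Over.w (τ.map (init (ob 0)).op), ← Over.w (σ.map (init (ob 0)).op), ← hb]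
      exact (reassoc_of% w.symm) (τ.obj (op .star)).hom)) (Over.isoMk b hb)
    (by
      ext : 1
      exact w)
  exact ⟨φ⟩

/-- universal cohomological descent in terms of `DescP` -/
theorem desc_of_univ {X T : TopCat.{u}} (f : X ⟶ T) (hf : IsUnivCohDescentMap f) {S : TopCat.{u}}
    (P : (Over S)ᵒᵖ ⥤ AddCommGrpCat.{u}) (hP : IsCart P)
    (τ : Dpᵒᵖ ⥤ Over S) (hτ : IsCech τ) (a : (τ.obj (op (ob 0))).left ⟶ X) (b : (τ.obj (op .star)).left ⟶ T)
    (sq : IsPullback a (τ.map (init (ob 0)).op).left f b) : DescP P τ := by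
  let Y := cechAug (pullback.snd f b)
  let π : Y.obj (op .star) ⟶ S := (τ.obj (op .star)).hom
  have h1 : DescP P (lift Y π) := (crit₁ (lift Y π) (hf _ b) P hP ⊤).of_top
  have h2 : Nonempty (lift Y π ≅ τ) :=
    nonempty_iso (isCech_lift _ (isCech_nerve _) _) hτ (nerveZero (pullback.snd f b) ≪≫ sq.isoPullback.symm)
      (Iso.refl _) (by
        change 𝟙 _ ≫ (τ.obj (op .star)).hom = Y.map (𝟙 _) ≫ π
        rw [Y.map_id]
        rfl) (by
        change Y.map (init (ob 0)).op ≫ 𝟙 _ = ((nerveZero (pullback.snd f b)).hom ≫ sq.isoPullback.inv) ≫ _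
        rw [Category.assoc, sq.isoPullback_inv_snd, nerveZero_hom]
        exact Category.comp_id _)
  obtain ⟨e⟩ := h2
  exact h1.of_iso e

/-- The open subset which is the range of an open embedding. -/
def rangeO {X T : TopCat.{u}} (b : X ⟶ T) (hb : Topology.IsOpenEmbedding b) : Opens T := ⟨Set.range b, hb.isOpen_range⟩

theorem isIso_of_isOpenEmbedding_comp {X Y Z : TopCat.{u}} (f : X ⟶ Y) (g : Y ⟶ Z)
    (hg : Topology.IsOpenEmbedding g) (hfg : Topology.IsOpenEmbedding (f ≫ g))
    (hs : ∀ y, g y ∈ Set.range (f ≫ g)) : IsIso f := by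
  rw [TopCat.isIso_iff_isHomeomorph, isHomeomorph_iff_isEmbedding_surjective]
  have h1 : Topology.IsOpenEmbedding (g ∘ f) := hfg
  refine ⟨(Topology.IsOpenEmbedding.of_comp f hg h1).isEmbedding, fun y => ?_⟩
  obtain ⟨x, hx⟩ := hs y
  exact ⟨x, hg.injective hx⟩

lemma isOpenEmbedding_subι (T : Over S) (U : Opens T.left) : Topology.IsOpenEmbedding (subι T U).left :=
  U.2.isOpenEmbedding_subtypeVal

theorem desc_of_coh {X T S : TopCat.{u}} (f : X ⟶ T) (hf : IsCohDescentMap f) (π : T ⟶ S)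
    (P : (Over S)ᵒᵖ ⥤ AddCommGrpCat.{u}) (hP : IsCart P)
    (τ : Dpᵒᵖ ⥤ Over S) (hτ : IsCech τ) (a : (τ.obj (op (ob 0))).left ⟶ X) (b : (τ.obj (op .star)).left ⟶ T)
    (hb : Topology.IsOpenEmbedding b) (hbπ : b ≫ π = (τ.obj (op .star)).hom)
    (sq : IsPullback a (τ.map (init (ob 0)).op).left f b) : DescP P τ := by
  let Y := cechAug f
  let π' : Y.obj (op .star) ⟶ S := π
  let U : Opens (Y.obj (op .star)) := rangeO b hb
  have h1 : DescP P (subD (lift Y π') U) := crit₁ (lift Y π') hf P hP U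
  -- the base
  have hU : ∀ z : (τ.obj (op .star)).left, b z ∈ ov (lift Y π') U .star := fun z => by
    change Y.map (𝟙 (op .star)) (b z) ∈ U
    rw [Y.map_id]
    exact ⟨z, rfl⟩
  let k : τ.obj (op .star) ⟶ (lift Y π').obj (op .star) := Over.homMk b (by
    change b ≫ Y.map (𝟙 (op .star)) ≫ π' = _
    rw [Y.map_id]
    exact hbπ)
  let k' : τ.obj (op .star) ⟶ (subD (lift Y π') U).obj (op .star) := subLift _ k hU
  have hk' : IsIso k'.left := by
    refine isIso_of_isOpenEmbedding_comp k'.left ((subDι (lift Y π') U).app (op .star)).left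
      (isOpenEmbedding_subι _ _) hb fun y => ?_
    have h3 : Y.map (𝟙 (op .star)) y.1 ∈ U := y.2
    rw [Y.map_id] at h3
    exact h3
  have sq1 : IsPullback ((subDι (lift Y π') U).app (op (ob 0))).left ((subD (lift Y π') U).map (init (ob 0)).op).left
      (Y.map (init (ob 0)).op) ((subDι (lift Y π') U).app (op .star)).left :=
    (isPullback_subDι (lift Y π') U (ob 0)).map (Over.forget S)
  have sq2 : IsPullback (a ≫ (nerveZero f).inv) ((τ.map (init (ob 0)).op).left ≫ k'.left)
      (Y.map (init (ob 0)).op) ((subDι (lift Y π') U).app (op .star)).left := by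
    refine IsPullback.of_iso sq (Iso.refl _) (nerveZero f).symm (asIso k'.left) (Iso.refl _) ?_ ?_ ?_ ?_
    · rw [Iso.refl_hom, Category.id_comp]
      rfl
    · rw [Iso.refl_hom, Category.id_comp]
      rfl
    · rw [Iso.refl_hom, Iso.symm_hom, nerveZero_inv]
      exact Category.comp_id _
    · exact Category.comp_id _
  have h2 : Nonempty (subD (lift Y π') U ≅ τ) := by
    refine nonempty_iso (isCech_subD (isCech_lift _ (isCech_nerve _) _) _) hτ (sq1.isoIsPullback _ _ sq2)
      (asIso k'.left).symm ?_ ?_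
    · rw [Iso.symm_hom, Iso.inv_comp_eq]
      exact (Over.w k').symm
    · rw [Iso.symm_hom, Iso.comp_inv_eq, Category.assoc]
      exact (sq1.isoIsPullback_hom_snd _ _ sq2).symm
  obtain ⟨e⟩ := h2
  exact h1.of_iso e

/-- Descent along a Cech diagram with a section. -/
theorem descP_of_section {τ : Dpᵒᵖ ⥤ Over S} (h : IsCech τ) (s : τ.obj (op .star) ⟶ τ.obj (op (ob 0)))
    (hs : s ≫ τ.map (init (ob 0)).op = 𝟙 _) (P : (Over S)ᵒᵖ ⥤ AddCommGrpCat.{u}) : DescP P τ := by
  obtain ⟨X⟩ := xco_of_section h s hs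
  exact isDesc_of_augExact (K61.Fub.bb_rs _ (bb_G P)) (fun q => (X.map ((G P).X q)).augExact)

theorem descP_subD_of_section {τ : Dpᵒᵖ ⥤ Over S} (h : IsCech τ) (s : τ.obj (op .star) ⟶ τ.obj (op (ob 0)))
    (hs : s ≫ τ.map (init (ob 0)).op = 𝟙 _) (P : (Over S)ᵒᵖ ⥤ AddCommGrpCat.{u})
    (U : Opens (τ.obj (op .star)).left) : DescP P (subD τ U) := by
  have sq := isPullback_subDι τ U (ob 0)
  refine descP_of_section (isCech_subD h U) (sq.lift ((subDι τ U).app (op .star) ≫ s) (𝟙 _) ?_) (sq.lift_snd _ _ _) P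
  rw [Category.assoc, hs, Category.comp_id, Category.id_comp]

/-- A map with a section is of cohomological descent. -/
theorem isCohDescentMap_of_section {X S : TopCat.{u}} (f : X ⟶ S) (s : S ⟶ X) (h : s ≫ f = 𝟙 S) :
    IsCohDescentMap f := by
  refine crit₂ (cechAug f) Set.univ (Opens.isBasis_iff_nbhd.2 fun {U x} hx => ⟨U, trivial, hx, le_rfl⟩)
    fun P _ U _ => ?_
  let s' : (cechAug f).obj (op .star) ⟶ (cechAug f).obj (op (ob 0)) := s ≫ (nerveZero f).inv
  have hs' : s' ≫ (cechAug f).map (init (ob 0)).op = 𝟙 _ := by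
    rw [Category.assoc, nerveZero_inv]
    exact h
  refine descP_subD_of_section (isCech_lift _ (isCech_nerve f) _) (Over.homMk s' ?_) ?_ P U
  · change s' ≫ (cechAug f).map (init (ob 0)).op ≫ 𝟙 _ = (cechAug f).map (𝟙 (op .star)) ≫ 𝟙 _
    rw [Category.comp_id, Category.comp_id, hs', (cechAug f).map_id]
  · ext : 1
    exact hs'

theorem isUnivCohDescentMap_of_section {X S : TopCat.{u}} (f : X ⟶ S) (s : S ⟶ X) (h : s ≫ f = 𝟙 S) :
    IsUnivCohDescentMap f := fun S' g => by
  refine isCohDescentMap_of_section _ (pullback.lift (g ≫ s) (𝟙 _) ?_) (pullback.lift_snd _ _ _)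
  rw [Category.assoc, h, Category.comp_id, Category.id_comp]

/-- The inclusion of an open subset. -/
abbrev inclO {S : TopCat.{u}} (V : Opens S) : TopCat.of V ⟶ S :=
  TopCat.ofHom ⟨Subtype.val, continuous_subtype_val⟩

/-- Cohomological descent is local on the base. -/
theorem isCohDescentMap_of_openCover {X S : TopCat.{u}} (f : X ⟶ S) {ι : Type*} (V : ι → Opens S)
    (hV : iSup V = ⊤) (h : ∀ i, IsCohDescentMap (pullback.snd f (inclO (V i)))) : IsCohDescentMap f := by
  refine crit₂ (cechAug f) {U | ∃ i, (show Opens S from U) ≤ V i} (Opens.isBasis_iff_nbhd.2 fun {U x} hx => ?_)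
    fun P hP U ⟨i, hi⟩ => ?_
  · have h1 : (show S from x) ∈ iSup V := by rw [hV]; trivial
    obtain ⟨i, hi⟩ := Opens.mem_iSup.1 h1
    exact ⟨U ⊓ V i, ⟨i, inf_le_right⟩, ⟨hx, hi⟩, inf_le_left⟩
  · let σ := lift (cechAug f) (𝟙 _)
    have hσ : IsCech (subD σ U) := isCech_subD (isCech_lift _ (isCech_nerve f) _) _
    have sq1 : IsPullback ((subDι σ U).app (op (ob 0))).left ((subD σ U).map (init (ob 0)).op).left
        ((cechAug f).map (init (ob 0)).op) ((subDι σ U).app (op .star)).left :=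
      (isPullback_subDι σ U (ob 0)).map (Over.forget S)
    have hz : ∀ z : ((subD σ U).obj (op .star)).left, z.1 ∈ V i := fun z => by
      have h3 : (cechAug f).map (𝟙 (op .star)) z.1 ∈ U := z.2
      rw [(cechAug f).map_id] at h3
      exact hi h3
    let b : ((subD σ U).obj (op .star)).left ⟶ TopCat.of (V i) :=
      TopCat.ofHom ⟨fun z => ⟨z.1, hz z⟩, Continuous.subtype_mk continuous_subtype_val _⟩
    have hb : Topology.IsOpenEmbedding b :=
      Topology.IsOpenEmbedding.of_comp b (V i).2.isOpenEmbedding_subtypeVal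
        (isOpenEmbedding_subι (σ.obj (op .star)) (ov σ U .star))
    have sq2 : IsPullback (((subDι σ U).app (op (ob 0))).left ≫ (nerveZero f).hom)
        ((subD σ U).map (init (ob 0)).op).left f (b ≫ inclO (V i)) := by
      refine IsPullback.of_iso sq1 (Iso.refl _) (nerveZero f) (Iso.refl _) (Iso.refl _) ?_ ?_ ?_ ?_
      · exact (Category.id_comp _).symm
      · exact (Category.comp_id _).trans (Category.id_comp _).symm
      · rw [nerveZero_hom]
        exact Category.comp_id _
      · exact Category.comp_id _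
    refine desc_of_coh _ (h i) (inclO (V i)) P hP _ hσ
      (pullback.lift _ (((subD σ U).map (init (ob 0)).op).left ≫ b) (sq2.w.trans (Category.assoc _ _ _).symm)) b hb
      ?_ ?_
    · change b ≫ inclO (V i) = _ ≫ (cechAug f).map (𝟙 (op .star)) ≫ 𝟙 _
      rw [(cechAug f).map_id]
      rfl
    · refine IsPullback.of_right ?_ (pullback.lift_snd _ _ _) (IsPullback.of_hasPullback f (inclO (V i)))
      rw [pullback.lift_fst]
      exact sq2

/-- Local sections. -/
def HasLocSec {X S : TopCat.{u}} (f : X ⟶ S) : Prop :=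
  ∀ s : S, ∃ (V : Opens S) (_ : s ∈ V) (t : TopCat.of V ⟶ X), t ≫ f = inclO V

lemma HasLocSec.baseChange {X S S' : TopCat.{u}} {f : X ⟶ S} (h : HasLocSec f) (g : S' ⟶ S) :
    HasLocSec (pullback.snd f g) := fun s' => by
  obtain ⟨V, hV, t, ht⟩ := h (g s')
  let gV : TopCat.of ((Opens.map g).obj V) ⟶ TopCat.of V :=
    TopCat.ofHom ⟨fun z => ⟨g z.1, z.2⟩, Continuous.subtype_mk (g.hom.continuous.comp continuous_subtype_val) _⟩
  refine ⟨(Opens.map g).obj V, hV, pullback.lift (gV ≫ t) (inclO _) ?_, pullback.lift_snd _ _ _⟩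
  rw [Category.assoc, ht]
  rfl

lemma hasLocSec_of_isLocalHomeomorph {X S : TopCat.{u}} (f : X ⟶ S) (hf : IsLocalHomeomorph f)
    (hs : Function.Surjective f) : HasLocSec f := fun s => by
  obtain ⟨x, rfl⟩ := hs s
  obtain ⟨e, hx, he⟩ := hf x
  refine ⟨⟨e.target, e.open_target⟩, ?_, TopCat.ofHom ⟨fun z => e.symm z.1, ?_⟩, ?_⟩
  · change f x ∈ e.target
    rw [he]
    exact e.map_source hx
  · exact e.continuousOn_symm.comp_continuous continuous_subtype_val fun z => z.2
  · ext z
    change f (e.symm z.1) = z.1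
    rw [he]
    exact e.right_inv z.2

theorem isCohDescentMap_of_hasLocSec {X S : TopCat.{u}} (f : X ⟶ S) (hf : HasLocSec f) : IsCohDescentMap f := by
  choose V hV t ht using hf
  refine isCohDescentMap_of_openCover f V (eq_top_iff.2 fun s _ => Opens.mem_iSup.2 ⟨s, hV s⟩) fun s => ?_
  refine isCohDescentMap_of_section _ (pullback.lift (t s) (𝟙 _) ?_) (pullback.lift_snd _ _ _)
  rw [ht, Category.id_comp]

theorem isUnivCohDescentMap_of_hasLocSec {X S : TopCat.{u}} (f : X ⟶ S) (hf : HasLocSec f) :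
    IsUnivCohDescentMap f := fun _ g => isCohDescentMap_of_hasLocSec _ (hf.baseChange g)

end K781.Row
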